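import Groth.Agent.FlatBirLib.Basic
import Groth.Agent.FlatMisc.DenseNear
import Groth.Agent.MorLib.SpreadFP
import Groth.Agent.GrpSchLib.FieldSmooth
import Mathlib

/-! # Flat closed models over codimension-one normal points -/

universe u

open CategoryTheory Limits AlgebraicGeometry

set_option backward.isDefEq.respectTransparency false
set_option backward.isDefEq.respectTransparency.types false

namespace Groth.Agent.FlatModelIso

theorem valuationRing_of_dim_one (A : Type u) [CommRing A] [IsDomain A] [IsNoetherianRing A]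
    [IsLocalRing A] [IsIntegrallyClosed A] (h : ringKrullDim A = 1) : ValuationRing A := by
  haveI : Ring.KrullDimLE 1 A := Ring.krullDimLE_iff.2 h.le
  haveI : Ring.DimensionLEOne A := ⟨fun {I} h0 hp => Ring.krullDimLE_one_iff_of_noZeroDivisors.1 ‹_› I h0 hp⟩
  haveI : IsDedekindDomain A := { }
  haveI : IsPrincipalIdealRing A := IsPrincipalIdealRing.of_finite_primes (by
    have hsub : {I : Ideal A | I.IsPrime} ⊆ {⊥, IsLocalRing.maximalIdeal A} := fun I hI => by
      by_cases h0 : I = ⊥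
      · exact Or.inl h0
      · haveI : I.IsPrime := hI
        exact Or.inr (IsLocalRing.eq_maximalIdeal (Ideal.IsPrime.isMaximal hI h0))
    exact (Set.toFinite _).subset hsub)
  infer_instance

/-- If a proper map is an isomorphism over a schematically dense open, and a section exists over `V`,
then it is an isomorphism over `V`. -/
theorem isIso_restrict_of_section {Z C : Scheme.{u}} [IsLocallyNoetherian Z] (h : Z ⟶ C)
    [IsSeparated h] (U : C.Opens) (hU : IsIso (h ∣_ U)) (hd : CInt.IsSchematicallyDense (h ⁻¹ᵁ U))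
    (V : C.Opens) (σ : V.toScheme ⟶ Z) (hσ : σ ≫ h = V.ι) : IsIso (h ∣_ V) := by
  have hrange : Set.range σ ⊆ Set.range (h ⁻¹ᵁ V).ι := by
    rw [Scheme.Opens.range_ι]
    rintro _ ⟨t, rfl⟩
    show h (σ t) ∈ V
    rw [← Scheme.Hom.comp_apply, hσ]
    exact t.2
  let σ' := IsOpenImmersion.lift (h ⁻¹ᵁ V).ι σ hrange
  have hσ'ι : σ' ≫ (h ⁻¹ᵁ V).ι = σ := IsOpenImmersion.lift_fac _ _ _
  have hσ' : σ' ≫ h ∣_ V = 𝟙 _ := by
    rw [← cancel_mono V.ι, Category.assoc, morphismRestrict_ι, ← Category.assoc, hσ'ι, hσ,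
      Category.id_comp]
  haveI : IsClosedImmersion σ' := by
    have : IsClosedImmersion (σ' ≫ h ∣_ V) := by rw [hσ']; infer_instance
    exact IsClosedImmersion.of_comp σ' (h ∣_ V)
  let O : (h ⁻¹ᵁ V).toScheme.Opens := (h ⁻¹ᵁ V).ι ⁻¹ᵁ (h ⁻¹ᵁ U)
  have hO : CInt.IsSchematicallyDense O := FlatBirLib.restrict_open _ hd
  haveI : IsLocallyNoetherian (h ⁻¹ᵁ V).toScheme := isLocallyNoetherian_of_isOpenImmersion (h ⁻¹ᵁ V).ι
  have hfac : (O.ι ≫ h ∣_ V) ≫ σ' = O.ι := by
    rw [← cancel_mono (h ⁻¹ᵁ V).ι, Category.assoc, hσ'ι]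
    have hmem : ∀ t : O.toScheme, h ((h ⁻¹ᵁ V).ι (O.ι t)) ∈ U := fun t => t.2
    refine (FlatBirLib.eq_of_comp_eq h U hU (O.ι ≫ (h ⁻¹ᵁ V).ι) ((O.ι ≫ h ∣_ V) ≫ σ) (fun t => ?_) ?_).symm
    · rw [Scheme.Hom.comp_apply]; exact hmem t
    · simp only [Category.assoc, hσ, morphismRestrict_ι]
  have hker : σ'.ker = ⊥ := by
    have h1 := Scheme.Hom.le_ker_comp (O.ι ≫ h ∣_ V) σ'
    rw [hfac, (AlgSpDec.SchDenseFacts.iff_ker_eq_bot O).1 hO] at h1
    exact le_bot_iff.1 h1
  haveI : IsIso σ' := IsClosedImmersion.isIso_iff_ker_eq_bot.2 hker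
  have : h ∣_ V = inv σ' := by rw [← cancel_epi σ', hσ', IsIso.hom_inv_id]
  rw [this]
  infer_instance

theorem exists_isIso_restrict {C Z : Scheme.{u}} [IsLocallyNoetherian C] (h : Z ⟶ C) [IsProper h]
    (U : C.Opens) (hUd : CInt.IsSchematicallyDense U) (hU : IsIso (h ∣_ U))
    (hd : CInt.IsSchematicallyDense (h ⁻¹ᵁ U))
    (c : C) (hdom : IsDomain (C.presheaf.stalk c)) (hnorm : IsIntegrallyClosed (C.presheaf.stalk c))
    (hdim : ringKrullDim (C.presheaf.stalk c) = 1) :
    ∃ V : C.Opens, c ∈ V ∧ IsIso (h ∣_ V) := by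
  haveI : IsLocallyNoetherian Z := LocallyOfFiniteType.isLocallyNoetherian h
  let A := C.presheaf.stalk c
  haveI : IsDomain A := hdom
  haveI : IsIntegrallyClosed A := hnorm
  haveI : ValuationRing A := valuationRing_of_dim_one A hdim
  let j := C.fromSpecStalk c
  haveI : Flat j := GrpSchLib.flat_fromSpecStalk c
  let K := FractionRing A
  let η : Spec (CommRingCat.of K) ⟶ Spec A := Spec.map (CommRingCat.ofHom (algebraMap A K))
  have hjU : CInt.IsSchematicallyDense (j ⁻¹ᵁ U) := FlatBirLib.preimage_of_flat j U hUd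
  obtain ⟨t, ht, htU⟩ := (FlatMisc.DenseNear.dense_spec_iff A _).1 hjU
  have hη : Set.range (η ≫ j) ⊆ Set.range U.ι := by
    rw [Scheme.Opens.range_ι]
    rintro _ ⟨x, rfl⟩
    refine htU ?_
    show t ∉ (PrimeSpectrum.comap (algebraMap A K) x).asIdeal
    intro hmem
    have h0 : algebraMap A K t ≠ 0 :=
      IsFractionRing.to_map_ne_zero_of_mem_nonZeroDivisors ht
    have hmem' : algebraMap A K t ∈ (x : PrimeSpectrum K).asIdeal := hmem
    rw [(Ideal.eq_bot_or_top (x : PrimeSpectrum K).asIdeal).resolve_right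
      (x : PrimeSpectrum K).isPrime.ne_top, Ideal.mem_bot] at hmem'
    exact h0 hmem'
  haveI := hU
  let ζ : Spec (CommRingCat.of K) ⟶ Z :=
    IsOpenImmersion.lift U.ι (η ≫ j) hη ≫ inv (h ∣_ U) ≫ (h ⁻¹ᵁ U).ι
  have hζ : ζ ≫ h = η ≫ j := by
    simp only [ζ, Category.assoc, ← morphismRestrict_ι, IsIso.inv_hom_id_assoc, IsOpenImmersion.lift_fac]
  have hex : ValuativeCriterion.Existence h := by
    have h1 : UniversallyClosed h := inferInstance
    rw [UniversallyClosed.eq_valuativeCriterion] at h1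
    exact h1.1
  let sq : ValuativeCommSq h :=
    { R := A
      K := K
      i₁ := ζ
      i₂ := j
      commSq := ⟨hζ⟩ }
  obtain ⟨⟨l⟩⟩ := hex sq
  have hl : l.l ≫ h = j := l.fac_right
  haveI : LocallyOfFinitePresentation h := inferInstance
  obtain ⟨V, hcV, σ, -, hσ⟩ := MorLib.SFP.spread_out (𝟙 C) h l.l (by rw [hl, Category.comp_id])
  rw [Category.comp_id] at hσ
  exact ⟨V, hcV, isIso_restrict_of_section h U hU hd V σ hσ⟩

end Groth.Agent.FlatModelIso
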